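import Cfsg.Agent.Lib.BG.Defs1
import Cfsg.Agent.Lib.BG.Quo
import Cfsg.Agent.Lib.BG.S1_1
import Cfsg.Agent.Lib.BG.S1_2
import Cfsg.Agent.Lib.BG.S1_3
import Cfsg.Agent.Lib.BG.S1_4

/-! Bender-Glauberman section 1 (ambient form; names follow BGsection1.v): the proofs are in
`S1_1` (1.1 - 1.4, Frattini subgroup), `S1_2` (coprime action, 1.5 - 1.16, 1.20), `S1_3`
(`O_{p',p}`, 1.15, `p`-length one) and `S1_4` (1.17 - 1.19). -/
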