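import Cfsg.Agent.Lib.BG.S10_6

/-!
Bender-Glauberman, section 10, first part: 10.1 - 10.8 (files `S10_0` - `S10_6`).
-/
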