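import Cfsg.Agent.Lib.BG.S14_5

/-!
Bender-Glauberman, section 14, first part (interface): `σ`-decomposition, `κ(M)`, 14.1 - 14.6.
The proofs are in `S14_T`, `S14_1` - `S14_5`.
-/
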