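import Mathlib
import Cfsg.Agent.Lib.BG.S7_0
import Cfsg.Agent.Lib.BG.S7_1
import Cfsg.Agent.Lib.BG.S7_4
import Cfsg.Agent.Lib.BG.S7_5
import Cfsg.Agent.Lib.BG.S7_6

/-!
Bender-Glauberman, section 7: the Transitivity Theorem.  The basic facts are in `S7_0`, 7.1 - 7.3 in
`S7_1`, 7.4 in `S7_4`, 7.5(b) and 7.6 in `S7_5`, 7.5(a) in `S7_6`.
-/
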