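import Cfsg.Agent.Lib.BG.S4a_1
import Cfsg.Agent.Lib.BG.S4a_2

/-! Bender-Glauberman 4.1 - 4.11, 4.13 - 4.15 (files `S4a_1`, `S4a_2`). -/
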