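import Cfsg.Agent.Lib.BG.S4b_1
import Cfsg.Agent.Lib.BG.S4b_2
import Cfsg.Agent.Lib.BG.S4b_3

/-! Bender-Glauberman 4.12, 4.16 - 4.20 (ambient form; names follow BGsection4.v). -/
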