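import Cfsg.Agent.Lib.BG.S5_1
import Cfsg.Agent.Lib.BG.S5_2

/-! Bender-Glauberman section 5 (ambient form; names follow BGsection5.v): the proofs are in
`S5_1` (5.1 - 5.4) and `S5_2` (5.5 - 5.7). -/
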