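import Mathlib
import Cfsg.Agent.Lib.BG.S9_2

/-!
Bender-Glauberman, section 9 (interface): the Uniqueness Theorem.
`noncyclic_normed_sub_Uniqueness`, `noncyclic_cent1_sub_Uniqueness` (9.1), `cent_uniq_Uniqueness` (9.2),
`any_cent_rank3_Uniqueness` (9.3), `any_rank3_Fitting_Uniqueness` (9.4), `SCN_3_Uniqueness` (9.5),
`rank3_Uniqueness`, `cent_rank3_Uniqueness`, `nonmaxElem2_Uniqueness` (9.6).
-/
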