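import Cfsg.Agent.Lib.BG.Defs1
import Cfsg.Agent.Lib.BG.QuoCos
import Cfsg.Agent.Lib.BG.S7_0
import Cfsg.Agent.Lib.BG.S10_9
import Cfsg.Agent.Lib.BG.S10_10
import Cfsg.Agent.Lib.BG.S10_11
import Cfsg.Agent.Lib.BG.S10_12
import Cfsg.Agent.Lib.BG.S10_13
import Cfsg.Agent.Lib.BG.S10_14

/-!
Bender-Glauberman, section 10, second part (interface): 10.9 - 10.14, proved in the files
`S10_9`, ..., `S10_14`.
-/
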