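import Cfsg.Agent.Lib.BG.S11_2

/-!
Bender-Glauberman, section 11 (interface): exceptional maximal subgroups.  The theorems are in
`S11_1` (11.1 - 11.4) and `S11_2` (11.5 - 11.7).
-/
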