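import Mathlib
import Cfsg.Agent.Lib.BG.S12_1
import Cfsg.Agent.Lib.BG.S12_2

/-!
Bender-Glauberman, section 12, items 12.1 - 12.6 (names follow BGsection12.v).
-/
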