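import Cfsg.Agent.Lib.BG.S12_12

/-!
Bender-Glauberman, section 12, items 12.7 - 12.12 (names follow BGsection12.v):
`nonabelian_tau2`, `abelian_tau2_sub_Fitting`, `abelian_tau2`, `tau1_act_tau2`, `sigma'_nil_abelian`,
`der_mmax_compl_abelian`, `tau2_compl_abelian`, `tau1_cent_tau2Elem_factor`, `norm_noncyclic_sigma`,
`cent1_nreg_sigma_uniq`, `primes_norm_tau2Elem`, `FTtypeF_complement`.
-/
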