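import Mathlib
import Cfsg.Agent.Lib.BG.Defs
import Cfsg.Agent.Lib.BG.S12_13
import Cfsg.Agent.Lib.BG.S12_15
import Cfsg.Agent.Lib.BG.S12_17

/-!
Bender-Glauberman, section 12, items 12.13 - 12.19 (interface; names follow BGsection12.v), proved in
the files `S12_13`, `S12_15`, `S12_17`.
-/
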