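import Mathlib
import Cfsg.Agent.Lib.BG.S13_3

/-!
Bender-Glauberman, section 13 (interface): prime action.  The theorems 13.1 - 13.5 are in `S13_1`,
13.6 - 13.9 in `S13_2`, 13.10 - 13.13 in `S13_3`.
-/
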