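import Mathlib
import Cfsg.Agent.Lib.BG.S14b_3

/-!
Bender-Glauberman, section 14, second part (interface): 14.7 - 14.10.
`card_conjSupp_normedTI`, `Ptype_embedding` (14.7), `P1type_trans`, `Ptype_trans` (14.8),
`mFT_partition_F`, `mFT_partition_P` (14.9), `ell_sigma_leq_2` (14.10), and the `PData` API.
-/
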