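import Mathlib
import Cfsg.Agent.Lib.BG.S14c_1

/-!
Bender-Glauberman, section 14, third part (interface): 14.11 - 14.13 (proofs in `S14c_1`).
-/
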