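import Cfsg.Agent.Lib.BG.Defs1
import Cfsg.Agent.Lib.BG.S3_10

/-! Interface of Bender-Glauberman 3.10 and Peterfalvi (9.1) (ambient form): the theorems
`Frobenius_Wielandt_fixpoint`, `Frobenius_primact` and `Frobenius_cyclic_cent_der1` are proved in
`S3_10`. -/
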