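import Cfsg.Agent.Lib.BG.S14_0
import Cfsg.Agent.Lib.BG.S15_0
import Cfsg.Agent.Lib.BG.S15_1
import Cfsg.Agent.Lib.BG.S15_2

/-!
Bender-Glauberman, section 15, first part: the subgroup `M_F = fittingHallOf M`, 15.1 - 15.4.  The
general facts on `M_F` are in `AmbCore` and `S15_0`, 15.1 in `S15_1`, 15.2 - 15.4 in `S15_2`.
-/
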