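import Cfsg.Agent.Lib.BG.S15_8

/-!
Bender-Glauberman, section 15, second part (interface): 15.5 - 15.9.  The theorems are in `S15_5`
(15.5, 15.6), `S15_7` and `S15_8` (15.8, 15.9).
-/
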