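import Mathlib
import Cfsg.Agent.Lib.BG.S16_5
import Cfsg.Agent.Lib.BG.S16_F

/-!
Bender-Glauberman section 16 and the group-theoretic part of Peterfalvi section 8 (interface).
-/
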