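import Cfsg.Agent.Lib.BG.S3_6

/-! Interface of Bender-Glauberman 3.6 (ambient form; names follow BGsection3.v). -/
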