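import Mathlib
import Cfsg.Agent.Lib.BG.S8_2

/-!
Bender-Glauberman, section 8 (interface): the Fitting subgroup of a maximal subgroup.
`non_pcore_Fitting_Uniqueness` (8.1a), `pcore_Fitting_Sylow_G`, `SCN_Fitting_Uniqueness` (8.1b),
`Fitting_Uniqueness`.
-/
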