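import Mathlib
import Cfsg.Agent.Lib.BG.Sec1
import Cfsg.Agent.Lib.BG.AmbCore
import Cfsg.Agent.Lib.BG.S10_r

/-! Bridges from the ambient vocabulary for the subgroup `⊤` to the vocabulary of the frozen
statements (namespace `CfsgLib.BG.Top`). -/

set_option autoImplicit false
set_option linter.unusedVariables false
set_option linter.unusedSectionVars false

namespace CfsgLib.BG.Top

open Cfsg Subgroup CfsgLib.BG
open scoped commutatorElement

variable {G : Type*} [Group G] [Finite G]

theorem opP_top (p : ℕ) : opP p (⊤ : Subgroup G) = pPrimePCore p G :=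
  PLocal.Constr.map_pPrimePCore_equiv (p := p) (Subgroup.topEquiv (G := G))

theorem oppOf_top {p : ℕ} (hp : p.Prime) : oppOf p (⊤ : Subgroup G) = pPrimeCore p G := by
  rw [oppOf, piCoreOf_top, S1.piCore_compl_eq hp]

theorem fittingOf_top : fittingOf (⊤ : Subgroup G) = fittingSubgroup G :=
  Core.map_equiv_fittingSubgroup (Subgroup.topEquiv (G := G))

theorem pLengthLE_one_iff {p : ℕ} (hp : p.Prime) :
    PLengthLE p 1 G ↔ ¬ p ∣ (pPrimePCore p G).index := by
  rw [← PLocal.Constr.upperPSeries_two, PLengthLE, show 2 * 1 + 1 = 2 + 1 from rfl,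
    PLocal.Constr.upperPSeries_succ_of_even even_two, ← hp.coprime_iff_not_dvd, Nat.coprime_comm,
    index_eq_card, ← Core.pPrimeCore_eq_top_iff]
  constructor
  · intro h
    apply comap_injective (QuotientGroup.mk'_surjective _)
    rw [h, comap_top]
  · intro h
    rw [h, comap_top]

theorem plen1_top {p : ℕ} (hp : p.Prime) : PLen1 p (⊤ : Subgroup G) ↔ PLengthLE p 1 G := by
  rw [plength1_pseries2_quo hp, opP_top, relIndex_top_right, pLengthLE_one_iff hp]

theorem odd_top (h : Odd (Nat.card G)) : Odd (Nat.card (⊤ : Subgroup G)) := by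
  rwa [card_top]

theorem hasNormalPCompl_top {p : ℕ} (hp : p.Prime) :
    HasNormalPCompl p (⊤ : Subgroup G) ↔ HasNormalPComplement p G := by
  have := Fact.mk hp
  rw [hasNormalPCompl_iff hp, Transfer.hasNormalPComplement_top_iff]

theorem rank_le_iff_rankLE {k : ℕ} {H : Subgroup G} : rank H ≤ k ↔ RankLE k H := by
  rw [S10.rank_le_iff]
  exact forall₂_congr fun p hp => S10.pRank_le_iff hp

theorem rank_top_le_iff {k : ℕ} : rank (⊤ : Subgroup G) ≤ k ↔ RankLE k G := by
  rw [S10.rank_le_iff]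
  exact forall₂_congr fun p hp => S10.pRank_top_le_iff hp

theorem rank_pgroup_le_iff {p k : ℕ} (hp : p.Prime) {R : Subgroup G} (hR : IsPiSubgroup {p} R) :
    rank R ≤ k ↔ PRankLE p k R := by
  rw [S10.rank_pgroup hp hR, S10.pRank_le_iff hp]

theorem odd_of_pgroup {p : ℕ} (hp : p.Prime) (hp2 : p ≠ 2) {R : Subgroup G}
    (hR : IsPiSubgroup {p} R) : Odd (Nat.card R) := by
  obtain ⟨k, hk⟩ := pgp_card hp hR
  rw [hk]
  exact (hp.odd_of_ne_two hp2).pow

theorem sdprod_top {H K : Subgroup G} (hn : H.Normal) (hc : IsComplement' H K) : SDProd H K ⊤ :=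
  sdprod_of_sup (normalIn_top.mpr hn).2 hc.disjoint.eq_bot hc.sup_eq_top

end CfsgLib.BG.Top
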